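import Mathlib
import Cfsg.Agent.H7.SelfNormal.Forward
import Cfsg.Agent.S4065
import Cfsg.Agent.S0799
import Cfsg.Agent.H1.Orders

/-!
# `PSL(2, 2^n)`, `2^n - 1` prime: non-abelian subgroups are self-normalising
-/

set_option autoImplicit false

namespace Cfsg.Agent.H7.SelfNormal

variable {G : Type*} [Group G] [Finite G]

open Matrix

/-- The data of the converse. -/
structure Setup (S : Sylow 2 G) (n : ℕ) : Prop where
  hyp : ACA.Hyp S
  card : Nat.card (S : Subgroup G) = 2 ^ n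
  cen : ∀ a ∈ ACA.cenS S, a ∈ S
  invs : Nat.card hyp.invs = 2 ^ n - 1
  norm : Nat.card (ACA.norS S) = 2 ^ n * (2 ^ n - 1)

section

variable {n : ℕ}

lemma psl_card (hn : n ≠ 0) :
    Nat.card (ProjectiveSpecialLinearGroup (Fin 2) (GaloisField 2 n)) =
      2 ^ n * ((2 ^ n) ^ 2 - 1) := by
  classical
  haveI := Fintype.ofFinite (GaloisField 2 n)
  have hq : Fintype.card (GaloisField 2 n) = 2 ^ n := by
    rw [← Nat.card_eq_fintype_card, GaloisField.card 2 n hn]
  rw [H6.card_psl2 hq]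
  have h1 : Nat.gcd 2 (2 ^ n - 1) = 1 := by
    refine Nat.prime_two.coprime_iff_not_dvd.2 fun hd => ?_
    have : 2 ∣ 2 ^ n := dvd_pow_self 2 hn
    have := Nat.one_le_two_pow (n := n)
    omega
  rw [h1, Nat.div_one]

lemma two_dvd_mul_sq_sub_one {q : ℕ} (hq : 2 ∣ q) : 2 ∣ q * (q ^ 2 - 1) :=
  dvd_mul_of_dvd_left hq _

lemma mk_setup [IsSimpleGroup G] (hna : ¬ IsMulCommutative G) (hn : 2 ≤ n)
    (e : G ≃* ProjectiveSpecialLinearGroup (Fin 2) (GaloisField 2 n)) (S : Sylow 2 G) :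
    Setup S n := by
  haveI : Fact (Nat.Prime 2) := ⟨Nat.prime_two⟩
  have hcardG : Nat.card G = 2 ^ n * ((2 ^ n) ^ 2 - 1) := by
    rw [Nat.card_congr e.toEquiv, psl_card (by omega)]
  have h2 : 2 ∣ Nat.card G := hcardG ▸ two_dvd_mul_sq_sub_one (dvd_pow_self 2 (by omega))
  have hS : Nat.card (S : Subgroup G) = 2 ^ n := by
    have hne : (2 ^ n) ^ 2 - 1 ≠ 0 := by
      have : 1 < (2 ^ n) ^ 2 := Nat.one_lt_pow two_ne_zero
        (Nat.one_lt_pow (by omega) one_lt_two)
      omega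
    have hnd : ¬ 2 ∣ (2 ^ n) ^ 2 - 1 := by
      have : 2 ∣ (2 ^ n) ^ 2 := dvd_pow (dvd_pow_self 2 (by omega)) two_ne_zero
      omega
    rw [S.card_eq_multiplicity, hcardG, Nat.factorization_mul (by positivity) hne,
      Finsupp.add_apply, Nat.prime_two.factorization_pow, Finsupp.single_eq_same,
      Nat.factorization_eq_zero_of_not_dvd hnd, add_zero]
  have hh : ACA.Hyp S := by
    refine ⟨sylow_not_cyclic hna h2 S, fun hN => ?_, fun t ht => isComm_of fun a ha b hb => ?_⟩
    · rcases hN.eq_bot_or_eq_top with h | h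
      · exact S.ne_bot_of_dvd_card h2 h
      · exact no_complement hna h2
          ⟨S, ⊥, inferInstance, Subgroup.isComplement'_bot_left.2 h⟩
    · apply e.injective
      rw [map_mul, map_mul]
      have hm : ∀ c ∈ Subgroup.centralizer ({t} : Set G),
          e c ∈ Subgroup.centralizer ({e t} : Set _) := fun c hc => by
        rw [Subgroup.mem_centralizer_singleton_iff, ← map_mul, ← map_mul,
          Subgroup.mem_centralizer_singleton_iff.1 hc]
      refine S4065.centralizer_comm n (e t) (fun h1 => ?_) _ _ (hm a ha) (hm b hb)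
      rw [← map_one e] at h1
      rw [e.injective h1, orderOf_one] at ht
      omega
  have hZ : Subgroup.center G = ⊥ :=
    (Subgroup.instNormalCenter (G := G)).eq_bot_or_eq_top.resolve_right fun h =>
      hna ⟨⟨fun a b => Subgroup.mem_center_iff.1 (h ▸ Subgroup.mem_top b) a⟩⟩
  have hcen : ∀ a ∈ ACA.cenS S, a ∈ S := fun a ha => by
    have h1 := hh.sq_center ha
    rw [hZ, Subgroup.mem_bot] at h1
    exact ACA.mem_of_pow_eq_one (ACA.cenS_le_norS S ha) (k := 1) (by rw [pow_one, h1])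
  have hinv : Nat.card hh.invs = 2 ^ n - 1 := by
    classical
    haveI : Fintype (S : Subgroup G) := Fintype.ofFinite _
    have e' : hh.invs ≃ {a : (S : Subgroup G) // a ≠ 1} :=
      { toFun := fun t => ⟨⟨t.1, hh.invs_mem t⟩, fun e => by
          have h1 := t.2.1
          rw [show t.1 = 1 from congrArg Subtype.val e, orderOf_one] at h1
          omega⟩
        invFun := fun a => ⟨a.1.1, H50.orderOf_eq_two
          (by rw [← pow_two]; exact hh.core.sq _ a.1.2) fun e => a.2 (Subtype.ext e),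
          Subgroup.le_normalizer a.1.2⟩
        left_inv := fun _ => rfl
        right_inv := fun _ => rfl }
    rw [Nat.card_congr e', Nat.card_eq_fintype_card, Fintype.card_subtype_compl,
      Fintype.card_subtype_eq, ← Nat.card_eq_fintype_card, hS]
  refine ⟨hh, hS, hcen, hinv, ?_⟩
  rw [hh.card_norS, hinv, le_antisymm (fun a ha => hcen a ha) hh.le_cenS]
  rw [hS]

/-- Subgroups of odd order are abelian. -/
lemma odd_comm [IsSimpleGroup G] (hna : ¬ IsMulCommutative G) (hn : 2 ≤ n)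
    (hr : (2 ^ n - 1).Prime)
    (e : G ≃* ProjectiveSpecialLinearGroup (Fin 2) (GaloisField 2 n)) (H : Subgroup G)
    (hH : Odd (Nat.card H)) : IsMulCommutative H := by
  classical
  haveI : Fact (Nat.Prime 2) := ⟨Nat.prime_two⟩
  haveI := Fintype.ofFinite (GaloisField 2 n)
  have hq : Fintype.card (GaloisField 2 n) = 2 ^ n := by
    rw [← Nat.card_eq_fintype_card, GaloisField.card 2 n (by omega)]
  set H' := H.map e.toMonoidHom with hH'
  let eH : H ≃* H' := e.subgroupMap H
  have hodd : Odd (Nat.card H') := by rw [← Nat.card_congr eH.toEquiv]; exact hH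
  have hev : ∀ {m : ℕ}, Nat.card H' = m → 2 ∣ m → False := fun h1 h2 =>
    Nat.not_even_iff_odd.2 hodd (even_iff_two_dvd.2 (h1 ▸ h2))
  have fin : IsCyclic H' → IsMulCommutative H := fun hc => by
    haveI := hc
    exact ⟨⟨fun a b => eH.injective (by rw [map_mul, map_mul, mul_comm' (eH a)])⟩⟩
  rcases S0799.result hq 2 H' with ⟨k, -, ⟨hc, -⟩ | ⟨⟨f⟩⟩⟩ | ⟨P, K, hK, ⟨f⟩⟩ |
      ⟨⟨f⟩⟩ | ⟨⟨f⟩⟩ | ⟨⟨f⟩⟩ | ⟨K, _, _, m, hm, hf⟩
  · exact fin hc
  · exact (hev (by rw [Nat.card_congr f.toEquiv, DihedralGroup.nat_card]) (dvd_mul_right 2 k)).elim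
  · refine fin ?_
    have hd : Nat.card H' ∣ 2 ^ n * (2 ^ n - 1) := by
      let S : Sylow 2 G := P.mapSurjective (f := e.symm.toMonoidHom) e.symm.surjective
      have h1 := (mk_setup hna hn e S).norm
      have h2 : K.map e.symm.toMonoidHom ≤ ACA.norS S := by
        have h0 : (S : Subgroup G) = (P : Subgroup _).map e.symm.toMonoidHom := rfl
        rw [ACA.norS, h0, ← Subgroup.map_equiv_normalizer_eq]
        exact Subgroup.map_mono hK
      have h3 := Subgroup.card_dvd_of_le h2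
      rw [h1, Subgroup.card_map_of_injective e.symm.injective, ← Nat.card_congr f.toEquiv] at h3
      exact h3
    have hd' : Nat.card H' ∣ 2 ^ n - 1 :=
      (Nat.Coprime.pow_right n (Nat.coprime_two_right.2 hodd)).dvd_of_dvd_mul_left hd
    rcases (Nat.dvd_prime hr).1 hd' with h1 | h1
    · haveI := (Nat.card_eq_one_iff_unique.1 h1).1
      infer_instance
    · haveI := Fact.mk hr
      exact isCyclic_of_prime_card h1
  · refine (hev (Nat.card_congr f.toEquiv) ?_).elim
    rw [nat_card_alternatingGroup, Nat.card_fin]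
    decide
  · refine (hev (Nat.card_congr f.toEquiv) ?_).elim
    rw [Nat.card_perm, Nat.card_fin]
    decide
  · refine (hev (Nat.card_congr f.toEquiv) ?_).elim
    rw [nat_card_alternatingGroup, Nat.card_fin]
    decide
  · exfalso
    have h2 : 2 ∣ Fintype.card K := by
      refine Nat.prime_two.dvd_of_dvd_pow (n := m) ?_
      rw [hm]
      exact dvd_pow_self 2 (by omega)
    rcases hf with ⟨⟨f⟩⟩ | ⟨⟨f⟩⟩
    · refine hev (by rw [Nat.card_congr f.toEquiv, H6.card_psl2 rfl]) ?_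
      have h1 : Nat.gcd 2 (Fintype.card K - 1) = 1 :=
        Nat.prime_two.coprime_iff_not_dvd.2 fun hd => by
          have := Fintype.one_lt_card (α := K)
          omega
      rw [h1, Nat.div_one]
      exact two_dvd_mul_sq_sub_one h2
    · exact hev (by rw [Nat.card_congr f.toEquiv, H1.card_PGL, H6.card_sl2 rfl])
        (two_dvd_mul_sq_sub_one h2)

variable {S : Sylow 2 G}

/-- An element of `N(S)` outside `S` has order `2 ^ n - 1`. -/
lemma Setup.orderOf_outer (d : Setup S n) (hr : (2 ^ n - 1).Prime) {y : G}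
    (hy : y ∈ ACA.norS S) (hyS : y ∉ S) : orderOf y = 2 ^ n - 1 := by
  have hodd : Odd (orderOf y) := by
    by_contra hev
    obtain ⟨j, hj⟩ := ACA.exists_pow_involution (Nat.not_odd_iff_even.1 hev)
    exact hyS (d.cen y (d.hyp.mem_cenS_of_commute (ACA.inv_mem_S (pow_mem hy j) hj) hj
      (Commute.self_pow y j).eq))
  have h1 : orderOf y ∣ 2 ^ n - 1 := by
    refine (Nat.Coprime.pow_right n (Nat.coprime_two_right.2 hodd)).dvd_of_dvd_mul_left ?_
    rw [← d.norm]
    exact Subgroup.orderOf_dvd_natCard _ hy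
  rcases (Nat.dvd_prime hr).1 h1 with h | h
  · exact absurd ((orderOf_eq_one_iff.1 h).symm ▸ one_mem (S : Subgroup G)) hyS
  · exact h

/-- An element of `N(S)` outside `S` which normalises `H` puts `S` into `H`. -/
lemma Setup.le_of_outer (d : Setup S n) (hn : 2 ≤ n) (hr : (2 ^ n - 1).Prime) {y t : G}
    {H : Subgroup G} (hy : y ∈ ACA.norS S) (hyS : y ∉ S)
    (hyH : y ∈ Subgroup.normalizer (H : Set G)) (ht : t ∈ H) (htS : t ∈ S) (ht2 : orderOf t = 2) :
    (S : Subgroup G) ≤ H := by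
  have hyn : ∀ a ∈ Subgroup.zpowers y, a ∈ ACA.norS S := fun a ha =>
    (Subgroup.zpowers_le.2 hy) ha
  let f : Subgroup.zpowers y → d.hyp.invs := fun a =>
    ⟨a.1 * t * a.1⁻¹, by rw [H50.orderOf_conj, ht2],
      mul_mem (mul_mem (hyn _ a.2) (Subgroup.le_normalizer htS)) (inv_mem (hyn _ a.2))⟩
  have hinj : Function.Injective f := fun a b hab => by
    have h1 : a.1 * t * a.1⁻¹ = b.1 * t * b.1⁻¹ := congrArg Subtype.val hab
    have hc : b.1⁻¹ * a.1 * t = t * (b.1⁻¹ * a.1) := by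
      calc b.1⁻¹ * a.1 * t = b.1⁻¹ * (a.1 * t * a.1⁻¹) * a.1 := by group
        _ = b.1⁻¹ * (b.1 * t * b.1⁻¹) * a.1 := by rw [h1]
        _ = t * (b.1⁻¹ * a.1) := by group
    have hmS := d.cen _ (d.hyp.mem_cenS_of_commute htS ht2 hc)
    have hd1 : orderOf (b.1⁻¹ * a.1) ∣ 2 ^ n := d.card ▸ Subgroup.orderOf_dvd_natCard _ hmS
    have hd2 : orderOf (b.1⁻¹ * a.1) ∣ 2 ^ n - 1 := by
      have := Subgroup.orderOf_dvd_natCard _ (mul_mem (inv_mem b.2) a.2)
      rwa [Nat.card_zpowers, d.orderOf_outer hr hy hyS] at this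
    have hcop : Nat.Coprime (2 ^ n) (2 ^ n - 1) := by
      refine Nat.Coprime.pow_left n (Nat.prime_two.coprime_iff_not_dvd.2 fun hd => ?_)
      have : 2 ∣ 2 ^ n := dvd_pow_self 2 (by omega)
      have := Nat.one_le_two_pow (n := n)
      omega
    exact Subtype.ext (inv_mul_eq_one.1
      (orderOf_eq_one_iff.1 (Nat.eq_one_of_dvd_coprimes hcop hd1 hd2))).symm
  have hbij : Function.Bijective f := (Nat.bijective_iff_injective_and_card f).2
    ⟨hinj, by rw [Nat.card_zpowers, d.orderOf_outer hr hy hyS, d.invs]⟩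
  intro s hs
  by_cases hs1 : s = 1
  · exact hs1 ▸ one_mem _
  have hs2 : orderOf s = 2 := H50.orderOf_eq_two
    (by rw [← pow_two]; exact d.hyp.core.sq _ hs) hs1
  obtain ⟨a, ha⟩ := hbij.2 ⟨s, hs2, Subgroup.le_normalizer hs⟩
  rw [show s = a.1 * t * a.1⁻¹ from (congrArg Subtype.val ha).symm]
  exact (Subgroup.mem_normalizer_iff.1 ((Subgroup.zpowers_le.2 hyH) a.2) t).1 ht

/-- A subgroup with two involutions in `S` and no further normalising element lies in `S`. -/
lemma Setup.le_sylow (d : Setup S n) {K : Subgroup G} (hK : K ⊓ ACA.norS S ≤ S) {a b : G}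
    (ha : a ∈ K) (haS : a ∈ S) (ha2 : orderOf a = 2) (hb : b ∈ K) (hbS : b ∈ S)
    (hb2 : orderOf b = 2) (hab : a ≠ b) : K ≤ S := by
  classical
  haveI : Fact (Nat.Prime 2) := ⟨Nat.prime_two⟩
  have hp : IsPGroup 2 ((S : Subgroup G).subgroupOf K) :=
    S.2.comap_subtype
  obtain ⟨T, hT⟩ := hp.exists_le_sylow
  obtain ⟨S', hS'⟩ := (T.2.map K.subtype).exists_le_sylow
  -- the Sylow subgroup containing `a` is unique
  have haT : a ∈ (S' : Subgroup G) := hS' ⟨⟨a, ha⟩, hT haS, rfl⟩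
  have hSS : (S' : Subgroup G) ≤ S := by
    obtain ⟨c, rfl⟩ := MulAction.exists_smul_eq G S S'
    have haT' : c⁻¹ * a * c ∈ S := by
      obtain ⟨x, hx, hxa⟩ := haT
      rw [← hxa]
      simpa [mul_assoc] using hx
    have hc : c ∈ ACA.norS S := d.hyp.mem_norS haS ha2 haT'
    rw [Sylow.smul_eq_iff_mem_normalizer.2 hc]
  have hTeq : (T : Subgroup K) = (S : Subgroup G).subgroupOf K :=
    le_antisymm (fun x hx => hSS (hS' ⟨x, hx, rfl⟩)) hT
  have hle : Subgroup.normalizer ((T : Subgroup K) : Set K) ≤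
      Subgroup.centralizer ((T : Subgroup K) : Set K) := by
    intro x hx
    have hxa : (x : G)⁻¹ * a * x ∈ (S : Subgroup G) := by
      have h1 := (Subgroup.mem_normalizer_iff''.1 hx ⟨a, ha⟩).1 (hT haS)
      rw [hTeq] at h1
      exact h1
    have hxS : (x : G) ∈ S := hK ⟨x.2, d.hyp.mem_norS haS ha2 hxa⟩
    refine Subgroup.mem_centralizer_iff.2 fun y hy => ?_
    rw [hTeq] at hy
    exact Subtype.ext (d.hyp.comm hy hxS)
  set O := (MonoidHom.transferSylow T hle).ker with hO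
  have hOodd : ¬ 2 ∣ Nat.card O := MonoidHom.not_dvd_card_ker_transferSylow T hle
  have hfree : ∀ (c : K), (c : G) ∈ S → orderOf (c : G) = 2 → ∀ o ∈ O,
      c * o * c⁻¹ = o⁻¹ := by
    intro c hcS hc2 o ho
    have hn : ∀ z : O, c * z * c⁻¹ ∈ O := fun z =>
      (MonoidHom.normal_ker _).conj_mem z.1 z.2 c
    let φ : O →* O :=
      { toFun := fun z => ⟨c * z * c⁻¹, hn z⟩
        map_one' := Subtype.ext (by simp)
        map_mul' := fun u v => Subtype.ext (by simp [mul_assoc]) }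
    have hcc : c * c = 1 := Subtype.ext (H50.inv_mul_self hc2)
    have hfp : MonoidHom.FixedPointFree φ := by
      intro z hz
      have h1 : (c : G) * z * (c : G)⁻¹ = ((z : K) : G) :=
        congrArg (fun w : O => ((w : K) : G)) hz
      have hzS : ((z : K) : G) ∈ S := d.cen _ (d.hyp.mem_cenS_of_commute hcS hc2 (by
        rw [mul_inv_eq_iff_eq_mul] at h1
        exact h1.symm))
      obtain ⟨j, hj⟩ := S.2 ⟨_, hzS⟩
      have hj' : z ^ 2 ^ j = 1 :=
        Subtype.ext (Subtype.ext (by simpa using congrArg Subtype.val hj))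
      exact orderOf_eq_one_iff.1 (Nat.eq_one_of_dvd_coprimes
        (Nat.Coprime.pow_left j ((Nat.prime_two.coprime_iff_not_dvd).2 hOodd))
        (orderOf_dvd_of_pow_eq_one hj') (orderOf_dvd_natCard z))
    have h2 : Function.Involutive φ := fun z => Subtype.ext (by
      show c * (c * z * c⁻¹) * c⁻¹ = z
      calc c * (c * z * c⁻¹) * c⁻¹ = (c * c) * z * (c * c)⁻¹ := by group
        _ = z := by rw [hcc]; simp)
    exact congrArg Subtype.val (congrFun (hfp.coe_eq_inv_of_involutive h2) ⟨o, ho⟩)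
  have habS : a * b ∈ S := mul_mem haS hbS
  have hab2 : orderOf (a * b) = 2 := H50.orderOf_eq_two
    (by rw [← pow_two]; exact d.hyp.core.sq _ habS)
    (fun e => hab (by rw [← H50.inv_eq_self hb2]; exact eq_inv_of_mul_eq_one_left e))
  have hObot : O = ⊥ := by
    refine eq_bot_iff.2 fun o ho => Subgroup.mem_bot.2 ?_
    have e1 := hfree ⟨b, hb⟩ hbS hb2 o ho
    have e2 := hfree ⟨a, ha⟩ haS ha2 o⁻¹ (inv_mem ho)
    have e1' : b * (o : G) * b⁻¹ = (o : G)⁻¹ := congrArg Subtype.val e1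
    have e2' : a * (o : G)⁻¹ * a⁻¹ = ((o : G)⁻¹)⁻¹ := congrArg Subtype.val e2
    have hoS : (o : G) ∈ S := d.cen _ (d.hyp.mem_cenS_of_commute habS hab2 (by
      calc (o : G) * (a * b) = a * (o : G)⁻¹ * a⁻¹ * (a * b) := by rw [e2', inv_inv]
        _ = a * (b * o * b⁻¹) * b := by rw [e1']; group
        _ = a * b * o := by group))
    obtain ⟨j, hj⟩ := S.2 ⟨_, hoS⟩
    have hj' : (⟨o, ho⟩ : O) ^ 2 ^ j = 1 :=
      Subtype.ext (Subtype.ext (by simpa using congrArg Subtype.val hj))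
    exact congrArg Subtype.val (orderOf_eq_one_iff.1 (Nat.eq_one_of_dvd_coprimes
      (Nat.Coprime.pow_left j ((Nat.prime_two.coprime_iff_not_dvd).2 hOodd))
      (orderOf_dvd_of_pow_eq_one hj') (orderOf_dvd_natCard (⟨o, ho⟩ : O))))
  have hc := MonoidHom.ker_transferSylow_isComplement' T hle
  rw [← hO, hObot, Subgroup.isComplement'_bot_left] at hc
  intro x hx
  have : (⟨x, hx⟩ : K) ∈ (S : Subgroup G).subgroupOf K := by
    rw [← hTeq, hc]; trivial
  exact this

/-- The converse implication. -/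
theorem converse [IsSimpleGroup G] (hna : ¬ IsMulCommutative G) (hn : 2 ≤ n)
    (hr : (2 ^ n - 1).Prime)
    (e : G ≃* ProjectiveSpecialLinearGroup (Fin 2) (GaloisField 2 n)) : SelfNorm G := by
  classical
  haveI : Fact (Nat.Prime 2) := ⟨Nat.prime_two⟩
  intro H hH
  refine le_antisymm ?_ Subgroup.le_normalizer
  have heven : 2 ∣ Nat.card H := by
    by_contra hd
    exact hH (odd_comm hna hn hr e H (Nat.odd_iff.2 (by omega)))
  obtain ⟨T⟩ := (inferInstance : Nonempty (Sylow 2 H))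
  obtain ⟨S, hTS⟩ := (T.2.map H.subtype).exists_le_sylow
  have d := mk_setup hna hn e S
  haveI : Nontrivial (T : Subgroup H) :=
    (Subgroup.nontrivial_iff_ne_bot _).2 (T.ne_bot_of_dvd_card heven)
  obtain ⟨t₀, ht₀T, ht₀2⟩ := H28.exists_involution_of_isPGroup T.2
    (T.ne_bot_of_dvd_card heven)
  have htS : (t₀ : G) ∈ S := hTS ⟨t₀, ht₀T, rfl⟩
  have ht2 : orderOf (t₀ : G) = 2 := by rw [Subgroup.orderOf_coe]; exact ht₀2
  -- it is enough to treat the normaliser of `S`
  suffices key : ∀ k ∈ Subgroup.normalizer (H : Set G), k ∈ ACA.norS S → k ∈ H by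
    intro g hg
    let ψ : H →* H :=
      { toFun := fun x => ⟨g * x * g⁻¹, (Subgroup.mem_normalizer_iff.1 hg x).1 x.2⟩
        map_one' := Subtype.ext (by simp)
        map_mul' := fun u v => Subtype.ext (by simp [mul_assoc]) }
    have hψ : Function.Surjective ψ := fun x =>
      ⟨⟨g⁻¹ * x * g, (Subgroup.mem_normalizer_iff''.1 hg x).1 x.2⟩,
        Subtype.ext (show g * (g⁻¹ * (x : G) * g) * g⁻¹ = x by group)⟩
    obtain ⟨h, hh⟩ := MulAction.exists_smul_eq H (T.mapSurjective hψ) T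
    have hmem : (h : G) * g * t₀ * ((h : G) * g)⁻¹ ∈ (S : Subgroup G) := by
      refine hTS ⟨h * ψ t₀ * h⁻¹, ?_, ?_⟩
      · rw [← hh]
        exact ⟨ψ t₀, ⟨t₀, ht₀T, rfl⟩, by simp [MulAut.conj]⟩
      · show (h : G) * (g * t₀ * g⁻¹) * (h : G)⁻¹ = _
        group
    have hk : ((h : G) * g)⁻¹ ∈ ACA.norS S :=
      d.hyp.mem_norS htS ht2 (by rwa [inv_inv])
    have := key _ (mul_mem (Subgroup.le_normalizer h.2) hg) (inv_mem_iff.1 hk)
    exact (Subgroup.mul_mem_cancel_left H h.2).1 this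
  intro k hkN hkS
  by_cases hsub : H ⊓ ACA.norS S ≤ S
  · by_contra hkH
    by_cases hk : k ∈ S
    · -- adjoin `k`
      have hk1 : k ≠ 1 := fun e => hkH (e ▸ one_mem H)
      have hk2 : orderOf k = 2 := H50.orderOf_eq_two
        (by rw [← pow_two]; exact d.hyp.core.sq _ hk) hk1
      set N := H ⊔ Subgroup.zpowers k with hN
      have hNS : N ≤ S := by
        refine d.le_sylow (fun x hx => ?_) (Subgroup.mem_sup_left t₀.2) htS ht2
          (Subgroup.mem_sup_right (Subgroup.mem_zpowers k)) hk hk2 fun e => hkH (e ▸ t₀.2)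
        have hx' : x ∈ ((H ⊔ Subgroup.zpowers k : Subgroup G) : Set G) := hx.1
        rw [Subgroup.coe_mul_of_right_le_normalizer_left H _ (Subgroup.zpowers_le.2 hkN)] at hx'
        obtain ⟨u, hu, v, hv, rfl⟩ := Set.mem_mul.1 hx'
        have hvS : v ∈ (S : Subgroup G) := Subgroup.zpowers_le.2 hk hv
        exact mul_mem (hsub ⟨hu, (Subgroup.mul_mem_cancel_right _
          (Subgroup.le_normalizer hvS)).1 hx.2⟩) hvS
      exact hH (isComm_of fun a ha b hb =>
        d.hyp.comm (hNS (Subgroup.mem_sup_left ha)) (hNS (Subgroup.mem_sup_left hb)))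
    · have hSH := d.le_of_outer hn hr hkS hk hkN t₀.2 htS ht2
      haveI : Nontrivial d.hyp.invs := Finite.one_lt_card_iff_nontrivial.1 (by
        have := d.hyp.invs_card.1; omega)
      obtain ⟨v, hv⟩ := exists_ne (⟨(t₀ : G), ht2, Subgroup.le_normalizer htS⟩ : d.hyp.invs)
      have hvS := d.hyp.invs_mem v
      have hHS := d.le_sylow hsub t₀.2 htS ht2 (hSH hvS) hvS v.2.1
        fun e => hv (Subtype.ext e.symm)
      exact hH (isComm_of fun a ha b hb => d.hyp.comm (hHS ha) (hHS hb))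
  · obtain ⟨z, ⟨hzH, hzN⟩, hzS⟩ := SetLike.not_le_iff_exists.1 hsub
    have hSH := d.le_of_outer hn hr hzN hzS (Subgroup.le_normalizer hzH) t₀.2 htS ht2
    suffices heq : H ⊓ ACA.norS S = ACA.norS S from (inf_eq_right.1 heq) hkS
    refine Subgroup.eq_of_le_of_card_ge inf_le_right ?_
    rw [d.norm]
    refine Nat.le_of_dvd Nat.card_pos (Nat.Coprime.mul_dvd_of_dvd_of_dvd ?_ ?_ ?_)
    · refine Nat.Coprime.pow_left n (Nat.prime_two.coprime_iff_not_dvd.2 fun hd => ?_)
      have : 2 ∣ 2 ^ n := dvd_pow_self 2 (by omega)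
      have := Nat.one_le_two_pow (n := n)
      omega
    · rw [← d.card]
      exact Subgroup.card_dvd_of_le (le_inf hSH Subgroup.le_normalizer)
    · rw [← d.orderOf_outer hr hzN hzS]
      exact Subgroup.orderOf_dvd_natCard _ ⟨hzH, hzN⟩

end

end Cfsg.Agent.H7.SelfNormal
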